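import Groth.Agent.Lib.GrothSS.Acyclic
import Groth.Agent.Lib.HomSES20.Resolution

/-!
# Derived functors of a composite when the inner derived values are acyclic
-/

set_option autoImplicit false
set_option linter.style.haveILetI false
set_option backward.isDefEq.respectTransparency false

universe v v' v'' u u' u''

open CategoryTheory CategoryTheory.Limits

namespace GrothLib.CompAcyclic20

open GrothLib.GrothSS GrothLib.HomGamma

variable {A : Type u} [Category.{v} A] [Abelian A] [EnoughInjectives A]
  {B : Type u'} [Category.{v'} B] [Abelian B] (S : A ⥤ B) [S.Additive] [PreservesFiniteLimits S]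
  (K : CochainComplex A ℕ)

/-- The coboundaries in degree `j + 1`, as the quotient of the terms by the cocycles. -/
noncomputable def bdry (j : ℕ) : A := cokernel (K.iCycles j)

/-- The projection onto the coboundaries. -/
noncomputable def toBdry (j : ℕ) : K.X j ⟶ bdry K j := cokernel.π (K.iCycles j)

omit [EnoughInjectives A] in
theorem iCycles_toCycles (j : ℕ) : K.iCycles j ≫ K.toCycles j (j + 1) = 0 := by
  rw [← cancel_mono (K.iCycles (j + 1)), Category.assoc, K.toCycles_i, K.iCycles_d, zero_comp]

/-- The inclusion of the coboundaries into the cocycles. -/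
noncomputable def bdryι (j : ℕ) : bdry K j ⟶ K.cycles (j + 1) :=
  cokernel.desc _ (K.toCycles j (j + 1)) (iCycles_toCycles K j)

omit [EnoughInjectives A] in
theorem toBdry_ι (j : ℕ) : toBdry K j ≫ bdryι K j = K.toCycles j (j + 1) := cokernel.π_desc _ _ _

/-- Cocycles, terms, coboundaries. -/
noncomputable def seq₁ (j : ℕ) : ShortComplex A :=
  ShortComplex.mk (K.iCycles j) (toBdry K j) (cokernel.condition _)

omit [EnoughInjectives A] in
theorem shortExact_seq₁ (j : ℕ) : (seq₁ K j).ShortExact :=
  { exact := ShortComplex.exact_of_g_is_cokernel _ (cokernelIsCokernel _)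
    mono_f := inferInstanceAs (Mono (K.iCycles j))
    epi_g := inferInstanceAs (Epi (cokernel.π (K.iCycles j))) }

omit [EnoughInjectives A] in
theorem bdryι_homologyπ (j : ℕ) : bdryι K j ≫ K.homologyπ (j + 1) = 0 := by
  haveI : Epi (toBdry K j) := inferInstanceAs (Epi (cokernel.π _))
  rw [← cancel_epi (toBdry K j), ← Category.assoc, toBdry_ι, K.toCycles_comp_homologyπ, comp_zero]

/-- Coboundaries, cocycles, homology. -/
noncomputable def seq₂ (j : ℕ) : ShortComplex A :=
  ShortComplex.mk (bdryι K j) (K.homologyπ (j + 1)) (bdryι_homologyπ K j)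

omit [EnoughInjectives A] in
theorem shortExact_seq₂ (j : ℕ) : (seq₂ K j).ShortExact := by
  haveI he : Epi (toBdry K j) := inferInstanceAs (Epi (cokernel.π _))
  have hmono : Mono (bdryι K j) := by
    refine Preadditive.mono_of_cancel_zero _ fun {W} x hx => ?_
    obtain ⟨W', π, _, y, hy⟩ := surjective_up_to_refinements_of_epi (toBdry K j) x
    have h1 : y ≫ K.d j (j + 1) = 0 := by
      have h2 := congrArg (fun t => π ≫ t ≫ K.iCycles (j + 1)) hx
      simp only [zero_comp, comp_zero, Category.assoc] at h2
      rw [← K.toCycles_i, ← toBdry_ι, Category.assoc, ← reassoc_of% hy]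
      exact h2
    have h3 : y ≫ toBdry K j = 0 := by
      rw [← K.liftCycles_i y (j + 1) (by simp) h1, Category.assoc, toBdry, cokernel.condition, comp_zero]
    rw [← cancel_epi π, hy, h3, comp_zero]
  haveI : Epi (seq₂ K j).g := inferInstanceAs (Epi (K.homologyπ (j + 1)))
  refine { exact := ?_, mono_f := hmono, epi_g := this }
  refine ShortComplex.exact_of_g_is_cokernel _ (CokernelCofork.IsColimit.ofπ' _ _ fun {W} x hx => ?_)
  refine CokernelCofork.IsColimit.desc' (K.homologyIsCokernel j (j + 1) (CochainComplex.prev_nat_succ j)) x ?_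
  change bdryι K j ≫ x = 0 at hx
  rw [← toBdry_ι, Category.assoc, hx, comp_zero]

variable (hX : ∀ i, IsAcyclicObj S (K.X i)) (p : ℕ) (hH : ∀ b, b ≤ p → IsAcyclicObj S (K.homology b))

include hX in
theorem isAcyclicObj_bdry (j : ℕ) (h : IsAcyclicObj S (K.cycles j)) : IsAcyclicObj S (bdry K j) :=
  fun k => isZero_rightDerived_X₃ S k (seq₁ K j) (shortExact_seq₁ K j) (h (k + 1)) (hX j k)

include hX hH in
theorem isAcyclicObj_cycles : ∀ j, j ≤ p → IsAcyclicObj S (K.cycles j) := by
  intro j
  induction j with
  | zero =>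
    intro hj
    exact isAcyclicObj_of_iso S (CochainComplex.isoHomologyπ₀ K).symm (hH 0 hj)
  | succ j ih =>
    intro hj k
    exact isZero_rightDerived_X₂ S k (seq₂ K j) (shortExact_seq₂ K j)
      (isAcyclicObj_bdry S K hX j (ih (by omega)) k) (hH (j + 1) hj k)

include hX hH in
/-- The homology of the image complex is the image of the homology. -/
theorem nonempty_homology_map_iso :
    Nonempty (((S.mapHomologicalComplex (ComplexShape.up ℕ)).obj K).homology p ≅ S.obj (K.homology p)) := by
  rcases p with _ | j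
  · let K' := (S.mapHomologicalComplex (ComplexShape.up ℕ)).obj K
    have h0 : IsLimit ((KernelFork.ofι (K.iCycles 0) (K.iCycles_d 0 1)).map S) :=
      KernelFork.mapIsLimit _ (K.cyclesIsKernel 0 1 (by simp)) S
    exact ⟨(CochainComplex.isoHomologyπ₀ K').symm ≪≫
      (K'.cyclesIsKernel 0 1 (by simp)).conePointUniqueUpToIso h0 ≪≫
      S.mapIso (CochainComplex.isoHomologyπ₀ K)⟩
  · let K' := (S.mapHomologicalComplex (ComplexShape.up ℕ)).obj K
    have hz := isAcyclicObj_cycles S K hX (j + 1) hH j (by omega)
    have h₁ := shortExact_map_of_isZero S (shortExact_seq₁ K j) (hz 0)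
    have h₂ := shortExact_map_of_isZero S (shortExact_seq₂ K j)
      (isAcyclicObj_bdry S K hX j hz 0)
    haveI : Epi (S.map (toBdry K j)) := h₁.epi_g
    haveI : Epi (S.map (K.homologyπ (j + 1))) := h₂.epi_g
    have hlim := KernelFork.mapIsLimit _ (K.cyclesIsKernel (j + 1) (j + 2) (by simp)) S
    have e := HomSES20.nonempty_homology_iso_of_exact (K'.sc' j (j + 1) (j + 2))
      (S.map (K.iCycles (j + 1)))
      (by change S.map (K.iCycles (j + 1)) ≫ S.map (K.d (j + 1) (j + 2)) = 0
          rw [← S.map_comp, K.iCycles_d, S.map_zero])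
      hlim (S.map (K.toCycles j (j + 1)))
      (by change S.map (K.toCycles j (j + 1)) ≫ S.map (K.iCycles (j + 1)) = S.map (K.d j (j + 1))
          rw [← S.map_comp, K.toCycles_i])
      (S.map (K.homologyπ (j + 1)))
      (by rw [← S.map_comp, K.toCycles_comp_homologyπ, S.map_zero])
      (by
        let φ : ShortComplex.mk (S.map (K.toCycles j (j + 1))) (S.map (K.homologyπ (j + 1)))
            (by rw [← S.map_comp, K.toCycles_comp_homologyπ, S.map_zero]) ⟶ (seq₂ K j).map S :=
          { τ₁ := S.map (toBdry K j)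
            τ₂ := 𝟙 _
            τ₃ := 𝟙 _
            comm₁₂ := by
              change S.map (toBdry K j) ≫ S.map (bdryι K j) = S.map (K.toCycles j (j + 1)) ≫ 𝟙 _
              rw [← S.map_comp, toBdry_ι, Category.comp_id]
            comm₂₃ := by simp [seq₂] }
        haveI : Epi φ.τ₁ := inferInstanceAs (Epi (S.map (toBdry K j)))
        haveI : IsIso φ.τ₂ := inferInstanceAs (IsIso (𝟙 _))
        haveI : Mono φ.τ₃ := inferInstanceAs (Mono (𝟙 _))
        exact (ShortComplex.exact_iff_of_epi_of_isIso_of_mono φ).2 h₂.exact)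
    exact ⟨K'.homologyIsoSc' j (j + 1) (j + 2) (CochainComplex.prev_nat_succ j) (by simp) ≪≫ e.some⟩

/-- The derived functor of a composite when the inner derived values are acyclic. -/
theorem nonempty_rightDerived_comp_iso {C : Type u''} [Category.{v''} C] [Abelian C] [HasInjectiveResolutions C]
    (T : C ⥤ A) [T.Additive] [(T ⋙ S).Additive]
    (hT : ∀ Q : C, Injective Q → IsAcyclicObj S (T.obj Q)) (X : C) (p : ℕ)
    (hH : ∀ b, b ≤ p → IsAcyclicObj S ((T.rightDerived b).obj X)) :
    Nonempty (((T ⋙ S).rightDerived p).obj X ≅ S.obj ((T.rightDerived p).obj X)) := by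
  let I := injectiveResolution X
  let K := (T.mapHomologicalComplex (ComplexShape.up ℕ)).obj I.cocomplex
  obtain ⟨e⟩ := nonempty_homology_map_iso S K (fun i => hT _ (I.injective i)) p
    (fun b hb => isAcyclicObj_of_iso S (I.isoRightDerivedObj T b) (hH b hb))
  exact ⟨I.isoRightDerivedObj (T ⋙ S) p ≪≫
    (HomologicalComplex.homologyFunctor B _ p).mapIso
      ((Functor.mapHomologicalComplexCompIso (Iso.refl (T ⋙ S)) (ComplexShape.up ℕ)).app I.cocomplex).symm ≪≫
    e ≪≫ S.mapIso (I.isoRightDerivedObj T p).symm⟩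

end GrothLib.CompAcyclic20
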